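import Cfsg.Agent.Kn.B

/-! More subgroups of the model, the moves, and the configurations. -/

set_option autoImplicit false
set_option linter.unusedSectionVars false
set_option maxRecDepth 100000
set_option synthInstance.maxSize 100000
set_option Elab.async false

namespace CF.Kn

open Subgroup Cfsg CF.BG CF.Sig CF.GW CF.Ab2 CF.Kondo CF.Known.Pres CF.AF Equiv SemidirectProduct
open CF.Ya (Bd E lk bt fn)

/-- `x₄ += (1+x₁)(1+x₂)` -/
abbrev d0 : M := 𝐦 3 0
/-- `x₄ += (1+x₁)(1+x₃)` -/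
abbrev d1 : M := 𝐦 5 0
/-- `x₄ += (1+x₂)(1+x₃)` -/
abbrev d2 : M := 𝐦 17 0
/-- the transposition `(0 1)` -/
abbrev dl : M := 𝐦 1 0
/-- `x₃ += (1+x₁)(1+x₂)` -/
abbrev da : M := 𝐦 0 8

/-- the centre -/
abbrev Z1 : Subgroup M := sx 0x8000000000000000000000000000000000000000000000000000000000000001 1 (by decide +kernel)
/-- the second centre -/
abbrev Z2 : Subgroup M := sx 0x8001000000000000000000000000000000000000000000000000000000008001 1 (by decide +kernel)
/-- the third centre -/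
abbrev Z3 : Subgroup M := sx 0x8001000000001008000000000000000000000000000000001008000000008001 1 (by decide +kernel)
/-- `x₄ += f(x₁,x₂)` -/
abbrev U4 : Subgroup M := sx 0x9009000000009009000000000000000000000000000000009009000000009009 1 (by decide +kernel)
/-- `x₄ += f`, `f` of even weight -/
abbrev E7 : Subgroup M := sx 0x9669699669969669699696699669699669969669966969969669699669969669 1 (by decide +kernel)
/-- `x₄ += f` -/
abbrev D1 : Subgroup M := sx 0xffffffffffffffffffffffffffffffffffffffffffffffffffffffffffffffff 1 (by decide +kernel)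
/-- translations by `⟨e₃, e₄⟩` -/
abbrev V2 : Subgroup M := sx 0x8000000000000000000000000000000000000000000000000000000000000001 0x1000000000000000000000000000001 (by decide +kernel)
/-- `A W1` -/
abbrev R : Subgroup M := sx 0x8001000000001008000000000000000000000000000000001008000000008001 0xc30000c300c3c30000c3c300c30000c3 (by decide +kernel)
/-- `W1 ⟨d0⟩` -/
abbrev X7 : Subgroup M := sx 0x9009000000009009000000000000000000000000000000009009000000009009 0x1000001000101000001010001000001 (by decide +kernel)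
/-- `x₃, x₄ += f(x₁,x₂)` -/
abbrev EE : Subgroup M := sx 0x9009000000009009000000000000000000000000000000009009000000009009 0x1010101010101010101010101010101 (by decide +kernel)
/-- `E7 A` -/
abbrev EA : Subgroup M := sx 0x9669699669969669699696699669699669969669966969969669699669969669 0xc30000000000000000000000000000c3 (by decide +kernel)
/-- `EE A` -/
abbrev XA : Subgroup M := sx 0x9009000000009009000000000000000000000000000000009009000000009009 0xc3c3c3c3c3c3c3c3c3c3c3c3c3c3c3c3 (by decide +kernel)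
/-- the domain of `ps` -/
abbrev X1 : Subgroup M := sx 0x9009000000009009000000000000000000000000000000009009000000009009 0xffffffffffffffffffffffffffffffff (by decide +kernel)
/-- `E7 T0` -/
abbrev T2 : Subgroup M := sx 0x9669699669969669699696699669699669969669966969969669699669969669 0xff0000ff00ffff0000ffff00ff0000ff (by decide +kernel)
/-- the even elements -/
abbrev S0 : Subgroup M := sx 0x9669699669969669699696699669699669969669966969969669699669969669 0xffffffffffffffffffffffffffffffff (by decide +kernel)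
/-- the even domain of `pl` -/
abbrev LD : Subgroup M := sx 0x9669699669969669699696699669699669969669966969969669699669969669 0xff0000ff0000000000000000ff0000ff (by decide +kernel)
/-- the domain of `pl` -/
abbrev LD1 : Subgroup M := sx 0xffffffffffffffffffffffffffffffffffffffffffffffffffffffffffffffff 0xff0000ff0000000000000000ff0000ff (by decide +kernel)
/-- the even domain of `pg` -/
abbrev GD : Subgroup M := sx 0x9669699669969669699696699669699669969669966969969669699669969669 0xc3c3c3c3c3c3c3c3c3c3c3c3c3c3c3c3 (by decide +kernel)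
/-- the domain of `pg` -/
abbrev GD1 : Subgroup M := sx 0xffffffffffffffffffffffffffffffffffffffffffffffffffffffffffffffff 0xc3c3c3c3c3c3c3c3c3c3c3c3c3c3c3c3 (by decide +kernel)
/-- the even elements fixing the four blocks -/
abbrev J0 : Subgroup M := sx 0x9669699669969669699696699669699669969669966969969669699669969669 0x1010101010101010101010101010101 (by decide +kernel)
/-- the elements fixing the four blocks -/
abbrev J1 : Subgroup M := sx 0xffffffffffffffffffffffffffffffffffffffffffffffffffffffffffffffff 0x1010101010101010101010101010101 (by decide +kernel)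
/-- the domain of `pr` -/
abbrev VH : Subgroup M := sx 0x9999999999999999999999999999999999999999999999999999999999999999 0x11111111111111111111111111111111 (by decide +kernel)
/-- the elements fixing the two halves -/
abbrev HH : Subgroup M := sx 0xffffffffffffffffffffffffffffffffffffffffffffffffffffffffffffffff 0x55555555555555555555555555555555 (by decide +kernel)

theorem card_Z1 : Nat.card Z1 = 2 := card_sx.trans (by decide +kernel)
theorem card_Z2 : Nat.card Z2 = 4 := card_sx.trans (by decide +kernel)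
theorem card_Z3 : Nat.card Z3 = 8 := card_sx.trans (by decide +kernel)
theorem card_U4 : Nat.card U4 = 16 := card_sx.trans (by decide +kernel)
theorem card_E7 : Nat.card E7 = 128 := card_sx.trans (by decide +kernel)
theorem card_D1 : Nat.card D1 = 256 := card_sx.trans (by decide +kernel)
theorem card_V2 : Nat.card V2 = 4 := card_sx.trans (by decide +kernel)
theorem card_R : Nat.card R = 256 := card_sx.trans (by decide +kernel)
theorem card_X7 : Nat.card X7 = 128 := card_sx.trans (by decide +kernel)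
theorem card_EE : Nat.card EE = 256 := card_sx.trans (by decide +kernel)
theorem card_EA : Nat.card EA = 1024 := card_sx.trans (by decide +kernel)
theorem card_XA : Nat.card XA = 1024 := card_sx.trans (by decide +kernel)
theorem card_X1 : Nat.card X1 = 2048 := card_sx.trans (by decide +kernel)
theorem card_T2 : Nat.card T2 = 8192 := card_sx.trans (by decide +kernel)
theorem card_S0 : Nat.card S0 = 16384 := card_sx.trans (by decide +kernel)
theorem card_LD : Nat.card LD = 4096 := card_sx.trans (by decide +kernel)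
theorem card_LD1 : Nat.card LD1 = 8192 := card_sx.trans (by decide +kernel)
theorem card_GD : Nat.card GD = 8192 := card_sx.trans (by decide +kernel)
theorem card_GD1 : Nat.card GD1 = 16384 := card_sx.trans (by decide +kernel)
theorem card_J0 : Nat.card J0 = 2048 := card_sx.trans (by decide +kernel)
theorem card_J1 : Nat.card J1 = 4096 := card_sx.trans (by decide +kernel)
theorem card_VH : Nat.card VH = 4096 := card_sx.trans (by decide +kernel)
theorem card_HH : Nat.card HH = 16384 := card_sx.trans (by decide +kernel)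

theorem sx_mono {m n m' n' : ℕ} {h : OkX m n} {h' : OkX m' n'} (h1 : ∀ v : E, bt m v.v = true → bt m' v.v = true)
    (h2 : ∀ t : T, bt n t.v = true → bt n' t.v = true) : sx m n h ≤ sx m' n' h' := fun _ k => ⟨h2 _ k.1, h1 _ k.2⟩

set_option quotPrecheck false in
/-- inclusions of split subgroups -/
scoped notation "sxle" => sx_mono (by decide +kernel) (by decide +kernel)

theorem sx_le' {m n : ℕ} {h : OkX m n} {K : Subgroup M} (h1 : ∀ v : E, bt m v.v = true → inl v ∈ K)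
    (h2 : ∀ t : T, bt n t.v = true → inr t ∈ K) : sx m n h ≤ K := fun x hx => by
  rw [← x.inl_left_mul_inr_right]; exact mul_mem (h1 _ hx.2) (h2 _ hx.1)

theorem gZ : ∀ v : E, bt 0x8000000000000000000000000000000000000000000000000000000000000001 v.v = true → ∃ c : Bd 2, wd [z] c.v = .inl v := by decide +kernel
theorem gA1 : ∀ v : E, bt 0x8001000000000000000000000000000000000000000000000000000000008001 v.v = true → ∃ c : Bd 4, wd [z, y1] c.v = .inl v := by decide +kernel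
theorem gA2 : ∀ v : E, bt 0x8001000000001008000000000000000000000000000000001008000000008001 v.v = true → ∃ c : Bd 8, wd [z, y1, y2] c.v = .inl v := by decide +kernel
theorem gU : ∀ v : E, bt 0x9009000000009009000000000000000000000000000000009009000000009009 v.v = true → ∃ c : Bd 16, wd [z, y1, y2, d0] c.v = .inl v := by decide +kernel
theorem gE : ∀ v : E, bt 0x9669699669969669699696699669699669969669966969969669699669969669 v.v = true → ∃ c : Bd 128, wd [z, y1, y2, y3, d0, d1, d2] c.v = .inl v := by decide +kernel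
theorem gD : ∀ v : E, bt 0xffffffffffffffffffffffffffffffffffffffffffffffffffffffffffffffff v.v = true → ∃ c : Bd 256, wd [z, y1, y2, y3, d0, d1, d2, dl] c.v = .inl v := by decide +kernel
theorem gB : ∀ v : E, bt 0x8001000000001008000004200240000000000240042000001008000000008001 v.v = true → ∃ c : Bd 16, wd [z, y1, y2, y3] c.v = .inl v := by decide +kernel
theorem gV : ∀ v : E, bt 0x9999999999999999999999999999999999999999999999999999999999999999 v.v = true → ∃ c : Bd 128, wd [𝐦 3 0, 𝐦 4 0, 𝐦 8 0, 𝐦 16 0, 𝐦 32 0, 𝐦 64 0, 𝐦 128 0] c.v = .inl v := by decide +kernel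
theorem t1 : ∀ t : T, bt 1 t.v = true → ∃ c : Bd 1, wd [] c.v = .inr t := by decide +kernel
theorem tV : ∀ t : T, bt 0x1000000000000000000000000000001 t.v = true → ∃ c : Bd 2, wd [a3] c.v = .inr t := by decide +kernel
theorem tFa : ∀ t : T, bt 0x1000001000101000001010001000001 t.v = true → ∃ c : Bd 8, wd [a3, u1, u2] c.v = .inr t := by decide +kernel
theorem tF : ∀ t : T, bt 0x1010101010101010101010101010101 t.v = true → ∃ c : Bd 16, wd [da, a3, u1, u2] c.v = .inr t := by decide +kernel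
theorem tA : ∀ t : T, bt 0xc30000000000000000000000000000c3 t.v = true → ∃ c : Bd 8, wd [a3, a2, a1] c.v = .inr t := by decide +kernel
theorem tR : ∀ t : T, bt 0xc30000c300c3c30000c3c300c30000c3 t.v = true → ∃ c : Bd 32, wd [a3, u1, u2, a2, a1] c.v = .inr t := by decide +kernel
theorem tAF : ∀ t : T, bt 0xc3c3c3c3c3c3c3c3c3c3c3c3c3c3c3c3 t.v = true → ∃ c : Bd 64, wd [da, a3, u1, u2, a2, a1] c.v = .inr t := by decide +kernel
theorem tT : ∀ t : T, bt 0xffffffffffffffffffffffffffffffff t.v = true → ∃ c : Bd 128, wd [da, a3, u1, u2, g0, a2, a1] c.v = .inr t := by decide +kernel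
theorem tK : ∀ t : T, bt 0xff0000ff00ffff0000ffff00ff0000ff t.v = true → ∃ c : Bd 64, wd [a3, u1, u2, g0, a2, a1] c.v = .inr t := by decide +kernel
theorem tR2 : ∀ t : T, bt 0xff0000ff0000000000000000ff0000ff t.v = true → ∃ c : Bd 32, wd [a3, u1, g0, a2, a1] c.v = .inr t := by decide +kernel
theorem tb : ∀ t : T, bt 0x11111111111111111111111111111111 t.v = true → ∃ c : Bd 32, wd [da, a3, u1, u2, g0] c.v = .inr t := by decide +kernel
theorem tx : ∀ t : T, bt 0x55555555555555555555555555555555 t.v = true → ∃ c : Bd 64, wd [da, a3, u1, u2, g0, a2] c.v = .inr t := by decide +kernel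

variable {K : Subgroup M}
theorem Z1_le (h : ∀ x ∈ [z], x ∈ K) : Z1 ≤ K := sx_le ⟨gZ, t1⟩ h
theorem Z2_le (h : ∀ x ∈ [z, y1], x ∈ K) : Z2 ≤ K := sx_le ⟨gA1, t1⟩ h
theorem Z3_le (h : ∀ x ∈ [z, y1, y2], x ∈ K) : Z3 ≤ K := sx_le ⟨gA2, t1⟩ h
theorem U4_le (h : ∀ x ∈ [z, y1, y2, d0], x ∈ K) : U4 ≤ K := sx_le ⟨gU, t1⟩ h
theorem E7_le (h : ∀ x ∈ [z, y1, y2, y3, d0, d1, d2], x ∈ K) : E7 ≤ K := sx_le ⟨gE, t1⟩ h
theorem D1_le (h : ∀ x ∈ [z, y1, y2, y3, d0, d1, d2, dl], x ∈ K) : D1 ≤ K := sx_le ⟨gD, t1⟩ h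
theorem V2_le (h : ∀ x ∈ [z, a3], x ∈ K) : V2 ≤ K := sx_le ⟨gZ, tV⟩ h
theorem R_le (h : ∀ x ∈ [z, y1, y2, a3, u1, u2, a2, a1], x ∈ K) : R ≤ K := sx_le ⟨gA2, tR⟩ h
theorem X7_le (h : ∀ x ∈ [z, y1, y2, d0, a3, u1, u2], x ∈ K) : X7 ≤ K := sx_le ⟨gU, tFa⟩ h
theorem EE_le (h : ∀ x ∈ [z, y1, y2, d0, da, a3, u1, u2], x ∈ K) : EE ≤ K := sx_le ⟨gU, tF⟩ h
theorem EA_le (h : ∀ x ∈ [z, y1, y2, y3, d0, d1, d2, a3, a2, a1], x ∈ K) : EA ≤ K := sx_le ⟨gE, tA⟩ h
theorem XA_le (h : ∀ x ∈ [z, y1, y2, d0, da, a3, u1, u2, a2, a1], x ∈ K) : XA ≤ K := sx_le ⟨gU, tAF⟩ h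
theorem X1_le (h : ∀ x ∈ [z, y1, y2, d0, da, a3, u1, u2, g0, a2, a1], x ∈ K) : X1 ≤ K := sx_le ⟨gU, tT⟩ h
theorem T2_le (h : ∀ x ∈ [z, y1, y2, y3, d0, d1, d2, a3, u1, u2, g0, a2, a1], x ∈ K) : T2 ≤ K := sx_le ⟨gE, tK⟩ h
theorem S0_le (h : ∀ x ∈ [z, y1, y2, y3, d0, d1, d2, da, a3, u1, u2, g0, a2, a1], x ∈ K) : S0 ≤ K := sx_le ⟨gE, tT⟩ h
theorem LD_le (h : ∀ x ∈ [z, y1, y2, y3, d0, d1, d2, a3, u1, g0, a2, a1], x ∈ K) : LD ≤ K := sx_le ⟨gE, tR2⟩ h
theorem LD1_le (h : ∀ x ∈ [z, y1, y2, y3, d0, d1, d2, dl, a3, u1, g0, a2, a1], x ∈ K) : LD1 ≤ K := sx_le ⟨gD, tR2⟩ h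
theorem GD_le (h : ∀ x ∈ [z, y1, y2, y3, d0, d1, d2, da, a3, u1, u2, a2, a1], x ∈ K) : GD ≤ K := sx_le ⟨gE, tAF⟩ h
theorem GD1_le (h : ∀ x ∈ [z, y1, y2, y3, d0, d1, d2, dl, da, a3, u1, u2, a2, a1], x ∈ K) : GD1 ≤ K := sx_le ⟨gD, tAF⟩ h
theorem J0_le (h : ∀ x ∈ [z, y1, y2, y3, d0, d1, d2, da, a3, u1, u2], x ∈ K) : J0 ≤ K := sx_le ⟨gE, tF⟩ h
theorem J1_le (h : ∀ x ∈ [z, y1, y2, y3, d0, d1, d2, dl, da, a3, u1, u2], x ∈ K) : J1 ≤ K := sx_le ⟨gD, tF⟩ h
theorem VH_le (h : ∀ x ∈ [𝐦 3 0, 𝐦 4 0, 𝐦 8 0, 𝐦 16 0, 𝐦 32 0, 𝐦 64 0, 𝐦 128 0, da, a3, u1, u2, g0], x ∈ K) : VH ≤ K := sx_le ⟨gV, tb⟩ h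
theorem HH_le (h : ∀ x ∈ [z, y1, y2, y3, d0, d1, d2, dl, da, a3, u1, u2, g0, a2], x ∈ K) : HH ≤ K := sx_le ⟨gD, tx⟩ h
theorem B_le (h : ∀ x ∈ [z, y1, y2, y3], x ∈ K) : B ≤ K := sx_le ⟨gB, t1⟩ h
theorem Q0_le (h : ∀ x ∈ [z, y1, y2, y3, a3, a2, a1], x ∈ K) : Q0 ≤ K := sx_le ⟨gB, tA⟩ h
theorem W1_le (h : ∀ x ∈ [z, y1, y2, a3, u1, u2], x ∈ K) : W1 ≤ K := sx_le ⟨gA2, tFa⟩ h
theorem R1_le (h : ∀ x ∈ [z, y1, y2, a3, u1, u2, g0, a2, a1], x ∈ K) : R1 ≤ K := sx_le ⟨gA2, tK⟩ h
theorem R2_le (h : ∀ x ∈ [z, y1, y2, y3, a3, u1, g0, a2, a1], x ∈ K) : R2 ≤ K := sx_le ⟨gB, tR2⟩ h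
theorem R3_le (h : ∀ x ∈ [z, y1, y2, y3, a3, u1, u2, a2, a1], x ∈ K) : R3 ≤ K := sx_le ⟨gB, tR⟩ h
theorem top_le (h : ∀ x ∈ [z, y1, y2, y3, d0, d1, d2, dl, da, a3, u1, u2, g0, a2, a1], x ∈ K) (x : M) : x ∈ K :=
  sx_le (m := 0xffffffffffffffffffffffffffffffffffffffffffffffffffffffffffffffff) (n := 0xffffffffffffffffffffffffffffffff) (h := by decide +kernel) ⟨gD, tT⟩ h
    ⟨(by decide +kernel : ∀ t : T, bt 0xffffffffffffffffffffffffffffffff t.v = true) _, (by decide +kernel : ∀ v : E, bt 0xffffffffffffffffffffffffffffffffffffffffffffffffffffffffffffffff v.v = true) _⟩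

/-- reading off an element from its permutation -/
def back (f : Fin 16 → Fin 16) : M :=
  ⟨⟨Nat.mod (Nat.shiftLeft (Nat.mod (f 0) 2) (Nat.div (f 0) 2) + Nat.shiftLeft (Nat.mod (f 2) 2) (Nat.div (f 2) 2) +
      Nat.shiftLeft (Nat.mod (f 4) 2) (Nat.div (f 4) 2) + Nat.shiftLeft (Nat.mod (f 6) 2) (Nat.div (f 6) 2) +
      Nat.shiftLeft (Nat.mod (f 8) 2) (Nat.div (f 8) 2) + Nat.shiftLeft (Nat.mod (f 10) 2) (Nat.div (f 10) 2) +
      Nat.shiftLeft (Nat.mod (f 12) 2) (Nat.div (f 12) 2) + Nat.shiftLeft (Nat.mod (f 14) 2) (Nat.div (f 14) 2)) 256,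
    Nat.mod_lt _ (by decide)⟩,
   ⟨Nat.mod (Nat.div (f 0) 8 + 2 * lk (f 0) 1 2 + 4 * lk (f 8) 1 2 + 8 * lk (f 0) 1 1 + 16 * lk (f 4) 1 1 +
      32 * lk (f 8) 1 1 + 64 * lk (f 12) 1 1) 128, Nat.mod_lt _ (by decide)⟩⟩

theorem back_pM : ∀ x : M, back (pM x) = x := by decide +kernel

/-- conjugation by an involution -/
def cjm (σ : Perm (Fin 16)) (a : M) : M := back fun i => σ (pM a (σ i))

/-- the transposition `(0 2)` -/
def pr : Perm (Fin 16) := Function.Involutive.toPerm (fun x => fn 16 (lk 0xfedcba9876543012 4 x))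
  (show ∀ _, _ = _ by decide +kernel)

/-- the involution `σ` normalizes `L` -/
structure Nm (σ : Perm (Fin 16)) (L : Subgroup M) : Prop where
  sq : ∀ i, σ (σ i) = i
  ex : ∀ a ∈ L, cjm σ a ∈ L ∧ σ * hM a = hM (cjm σ a) * σ

variable {σ : Perm (Fin 16)} {L P : Subgroup M} {a b : M}

theorem cjm_eq (sq : ∀ i, σ (σ i) = i) (h : σ * hM a = hM b * σ) : cjm σ a = b := by
  rw [cjm, ← back_pM b]; congr 1; funext i
  have := Equiv.congr_fun h (σ i)
  rwa [Perm.mul_apply, Perm.mul_apply, sq] at this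

theorem nm_sx {m n : ℕ} {h : OkX m n} (sq : ∀ i, σ (σ i) = i)
    (h1 : ∀ v : E, bt m v.v = true → cjm σ (inl v) ∈ sx m n h ∧ ∀ i, σ (pM (inl v) i) = pM (cjm σ (inl v)) (σ i))
    (h2 : ∀ t : T, bt n t.v = true → cjm σ (inr t) ∈ sx m n h ∧ ∀ i, σ (pM (inr t) i) = pM (cjm σ (inr t)) (σ i)) :
    Nm σ (sx m n h) := ⟨sq, fun a ha => by
  obtain ⟨b, hb, e⟩ : ∃ b ∈ sx m n h, σ * hM a = hM b * σ := sx_le' (K := ⟨⟨⟨{a | ∃ b ∈ sx m n h, σ * hM a = hM b * σ},
      fun ⟨b, hb, e⟩ ⟨c, hc, f⟩ => ⟨b * c, mul_mem hb hc, by rw [map_mul, map_mul, ← mul_assoc, e, mul_assoc, f, mul_assoc]⟩⟩,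
      1, one_mem _, by simp⟩, fun ⟨b, hb, e⟩ => ⟨b⁻¹, inv_mem hb, by
        rw [map_inv, map_inv, mul_inv_eq_iff_eq_mul, mul_assoc, e, inv_mul_cancel_left]⟩⟩)
    (fun v hv => ⟨_, (h1 v hv).1, Equiv.ext (h1 v hv).2⟩) (fun t ht => ⟨_, (h2 t ht).1, Equiv.ext (h2 t ht).2⟩) ha
  rw [cjm_eq sq e]; exact ⟨hb, e⟩⟩

theorem ps_X1 : Nm ps X1 := nm_sx (by decide +kernel) (by decide +kernel) (by decide +kernel)
theorem ps_R1 : Nm ps R1 := nm_sx (by decide +kernel) (by decide +kernel) (by decide +kernel)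
theorem ps_XA : Nm ps XA := nm_sx (by decide +kernel) (by decide +kernel) (by decide +kernel)
theorem ps_EE : Nm ps EE := nm_sx (by decide +kernel) (by decide +kernel) (by decide +kernel)
theorem ps_R : Nm ps R := nm_sx (by decide +kernel) (by decide +kernel) (by decide +kernel)
theorem ps_W1 : Nm ps W1 := nm_sx (by decide +kernel) (by decide +kernel) (by decide +kernel)
theorem pl_LD : Nm pl LD := nm_sx (by decide +kernel) (by decide +kernel) (by decide +kernel)
theorem pl_LD1 : Nm pl LD1 := nm_sx (by decide +kernel) (by decide +kernel) (by decide +kernel)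
theorem pl_R2 : Nm pl R2 := nm_sx (by decide +kernel) (by decide +kernel) (by decide +kernel)
theorem pl_E7 : Nm pl E7 := nm_sx (by decide +kernel) (by decide +kernel) (by decide +kernel)
theorem pl_D1 : Nm pl D1 := nm_sx (by decide +kernel) (by decide +kernel) (by decide +kernel)
theorem pl_EA : Nm pl EA := nm_sx (by decide +kernel) (by decide +kernel) (by decide +kernel)
theorem pl_Q0 : Nm pl Q0 := nm_sx (by decide +kernel) (by decide +kernel) (by decide +kernel)
theorem pg_GD : Nm pg GD := nm_sx (by decide +kernel) (by decide +kernel) (by decide +kernel)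
theorem pg_GD1 : Nm pg GD1 := nm_sx (by decide +kernel) (by decide +kernel) (by decide +kernel)
theorem pg_R3 : Nm pg R3 := nm_sx (by decide +kernel) (by decide +kernel) (by decide +kernel)
theorem pg_E7 : Nm pg E7 := nm_sx (by decide +kernel) (by decide +kernel) (by decide +kernel)
theorem pg_D1 : Nm pg D1 := nm_sx (by decide +kernel) (by decide +kernel) (by decide +kernel)
theorem pg_EA : Nm pg EA := nm_sx (by decide +kernel) (by decide +kernel) (by decide +kernel)
theorem pg_EE : Nm pg EE := nm_sx (by decide +kernel) (by decide +kernel) (by decide +kernel)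
theorem pg_XA : Nm pg XA := nm_sx (by decide +kernel) (by decide +kernel) (by decide +kernel)
theorem pg_R : Nm pg R := nm_sx (by decide +kernel) (by decide +kernel) (by decide +kernel)
theorem pg_Q0 : Nm pg Q0 := nm_sx (by decide +kernel) (by decide +kernel) (by decide +kernel)
theorem pg_J0 : Nm pg J0 := nm_sx (by decide +kernel) (by decide +kernel) (by decide +kernel)
theorem pg_J1 : Nm pg J1 := nm_sx (by decide +kernel) (by decide +kernel) (by decide +kernel)
theorem pr_VH : Nm pr VH := nm_sx (by decide +kernel) (by decide +kernel) (by decide +kernel)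

theorem Nm.mem (n : Nm σ L) (ha : a ∈ L) : cjm σ a ∈ L := (n.ex a ha).1

theorem Nm.mul (n : Nm σ L) (ha : a ∈ L) (hb : b ∈ L) : cjm σ (a * b) = cjm σ a * cjm σ b := cjm_eq n.sq (by
  rw [map_mul, map_mul, ← mul_assoc, (n.ex a ha).2, mul_assoc, (n.ex b hb).2, mul_assoc])

universe u
variable {G : Type u} [Group G] [Finite G] {F F' : M → G} {π : G → Perm (Fin 16)} {x : G}

/-- `x` acts on `L` as `σ` -/
def Mv (F : M → G) (x : G) (σ : Perm (Fin 16)) (L : Subgroup M) : Prop := ∀ a ∈ L, x * F a * x⁻¹ = F (cjm σ a)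

theorem Mv.cj (h : Mv F x σ L) (n : Nm σ L) (l : L ≤ P) (ha : a ∈ L) : Cj P F x a (cjm σ a) := ⟨l ha, l (n.mem ha), h a ha⟩

theorem Mv.cj' (h : Mv F x σ L) (n : Nm σ L) (l : L ≤ P) (ha : a ∈ L) (e : cjm σ a = b) : Cj P F x a b := e ▸ h.cj n l ha

theorem Mv.mono {L' : Subgroup M} (h : Mv F x σ L) (l : L' ≤ L) : Mv F x σ L' := fun a ha => h a (l ha)

theorem Mv.congr (h : Mv F x σ L) (n : Nm σ L) (e : ∀ a ∈ L, F' a = F a) : Mv F' x σ L := fun a ha => by
  rw [e a ha, e _ (n.mem ha), h a ha]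

theorem Mv.norm {L' : Subgroup M} (h : Mv F x σ L) (e : Emb P F) (l : L ≤ P) (l' : L' ≤ L) (n : Nm σ L') : x ∈ 𝐍 (im L' F) :=
  nm_of e fun _ ha => ⟨_, n.mem ha, (h.mono l').cj n (l'.trans l) ha⟩

/-- moves from generators -/
theorem mv_of (e : Emb P F) (n : Nm σ L) {gs : List M} (hg : ∀ {K : Subgroup M}, (∀ x ∈ gs, x ∈ K) → L ≤ K)
    (k : ∀ a ∈ gs, a ∈ L ∧ Cj P F x a (cjm σ a)) : Mv F x σ L := fun _ ha =>
  (hg (K := ⟨⟨⟨{a | a ∈ L ∧ Cj P F x a (cjm σ a)}, fun ha hb => ⟨mul_mem ha.1 hb.1,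
      (ha.2.mul e hb.2).cast rfl (n.mul ha.1 hb.1).symm⟩⟩, one_mem _,
      (Cj.one e x).cast rfl (cjm_eq n.sq (by simp)).symm⟩, fun {a} ha => ⟨inv_mem ha.1, (ha.2.inv e).cast rfl
        (cjm_eq n.sq (by rw [map_inv, map_inv, mul_inv_eq_iff_eq_mul, mul_assoc, (n.ex a ha.1).2, inv_mul_cancel_left])).symm⟩⟩)
    k ha).2.e

/-- elements of `N(A)` acting as `σ` on `L` -/
theorem Kn.mv (K : Kn F π) (hσ : σ ∈ [ps, pl, pg]) (n : Nm σ L) (l : L ≤ T0) : ∃ x ∈ 𝐍 (im A F), π x = σ ∧ Mv F x σ L := by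
  obtain ⟨x, hx, rfl⟩ := K.sur σ hσ
  obtain ⟨y, hy, e, k⟩ := K.up hx l fun a ha => ⟨_, l (n.mem ha), (n.ex a ha).2⟩
  exact ⟨y, hy, e, fun a ha => (k a ha _ (l (n.mem ha)) (n.ex a ha).2).e⟩

/-- the Sylow subgroup of `A₁₆` with its moves -/
structure L14 (F : M → G) (π : G → Perm (Fin 16)) : Prop extends Kn F π where
  e0 : Emb S0 F
  s : ∃ x, Mv F x ps X1
  l : ∃ x, Mv F x pl LD
  g : ∃ x, Mv F x pg GD
  sy : Syl 2 (im EE F) (𝐂 (im W1 F))

/-- the Sylow subgroup of `S₁₆` with the even moves -/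
structure L15 (F : M → G) : Prop where
  e : Emb ⊤ F
  syl : Syl 2 (im ⊤ F) ⊤
  s : ∃ x, Mv F x ps X1
  l : ∃ x, Mv F x pl LD
  g : ∃ x, Mv F x pg GD

/-- the Sylow subgroup of `S₁₆` with all moves -/
structure L16 (F : M → G) : Prop where
  e : Emb ⊤ F
  syl : Syl 2 (im ⊤ F) ⊤
  s : ∃ x, Mv F x ps X1
  l : ∃ x, Mv F x pl LD1
  g : ∃ x, Mv F x pg GD1
  r : ∃ x, Mv F x pr VH

/-- the simple groups of the conclusion -/
def Concl (G : Type u) [Group G] : Prop := Nonempty (G ≃* GL (Fin 5) (ZMod 2)) ∨ Spor.IsoM24 G ∨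
  ∃ n : ℕ, 16 ≤ n ∧ n ≤ 19 ∧ Nonempty (G ≃* alternatingGroup (Fin n))

end CF.Kn
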