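import Cfsg.Agent.Kn.D5

/-! The action on `E7`; the parameter vanishes. -/

set_option autoImplicit false
set_option linter.unusedSectionVars false
set_option maxRecDepth 100000
set_option synthInstance.maxSize 100000

namespace CF.Kn

open Subgroup Cfsg CF.BG CF.Sig CF.GW CF.Ab2 CF.Kondo CF.Known.Pres CF.AF Equiv

universe u
variable {G : Type u} [Group G] [Finite G] {F F' : M → G} {π : G → Perm (Fin 16)} {x y n o d l g : G} {a b c f f' m t w : M}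
  {P P' L L' : Subgroup M} {C S : Subgroup G} {ε : Bool} {θ θ' : M → M}

/-- coordinates in `E7` -/
def co (a : M) : ℕ := Ya.lk 0x200011008588000c910024000020106880c200071e400062014a1000152200e800064ce00077011eb80280000400d1200009db800e0001701a3c009000058b60004b01ef58050000380020c00006c580760002b7a0002d00746800038f005c0003e01f7680ba0004d9c0005e01bbf0001ff780be0004f980005c01b3e007e0002f007c7800030e00580003c540003a0028d000064480720002901abd00940005ab20004901e74802c0000600d93000095a800a00015015a300ec00066ca000750116a80010e980c600073e00006001420000600013008d98000c10002000000 7 a.left.v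

/-- linear maps on `E7` -/
def ap (v : List M) (a : M) : M := wd v (co a)

theorem wd_co : ∀ a ∈ E7, wd [z, y1, y2, y3, d0, d1, d2] (co a) = a := by decide +kernel

theorem wd_cj (e : Emb P F) {l v : List M} (h : List.Forall₂ (Cj P F x) l v) (c : ℕ) : Cj P F x (wd l c) (wd v c) := by
  induction h generalizing c with
  | nil => exact .one e x
  | cons q _ ih =>
    rw [wd, wd]; cases Ya.bt c 0
    exacts [ih _, q.mul e (ih _)]

/-- `x` acts on `E7` as `θ` -/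
def Lf (F : M → G) (x : G) (θ : M → M) : Prop := ∀ a ∈ E7, θ a ∈ E7 ∧ Cj EA F x a (θ a)

theorem Lf.mul (h : Lf F x θ) (k : Lf F y θ') : Lf F (x * y) fun a => θ (θ' a) := fun a ha =>
  ⟨(h _ (k a ha).1).1, (k a ha).2.comp (h _ (k a ha).1).2⟩

section
variable (e : Emb EA F)
include e

theorem Lf.of {b1 b2 b3 c0 c1 c2 : M} (h0 : Cj EA F x z z) (h1 : Cj EA F x y1 b1) (h2 : Cj EA F x y2 b2) (h3 : Cj EA F x y3 b3)
    (k0 : Cj EA F x d0 c0) (k1 : Cj EA F x d1 c1) (k2 : Cj EA F x d2 c2) (m : ∀ a ∈ [z, b1, b2, b3, c0, c1, c2], a ∈ E7) :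
    Lf F x (ap [z, b1, b2, b3, c0, c1, c2]) := fun a ha => ⟨wd_mem m _,
  (wd_cj e (.cons h0 (.cons h1 (.cons h2 (.cons h3 (.cons k0 (.cons k1 (.cons k2 .nil))))))) _).cast (wd_co a ha) rfl⟩

theorem Lf.im (hc : c ∈ A) : Lf F (F c) fun a => c * a * c⁻¹ := fun a ha =>
  ⟨(mdec : ∀ c ∈ A, ∀ a ∈ E7, c * a * c⁻¹ ∈ E7) c hc a ha, .of e (A_EA hc) (E7_EA ha)⟩

theorem Lf.uniq (h : Lf F x θ) (k : Lf F y θ') (q : x = y) (ha : a ∈ E7) : θ a = θ' a := (h a ha).2.uniq e (q ▸ (k a ha).2)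

theorem Lf.norm (h : Lf F x θ) : x ∈ 𝐍 (Kondo.im E7 F) := nm_of e fun a ha => ⟨_, h a ha⟩

end

theorem Ea.tz (h : Ea F) (k : Lf F x θ) (q : (∀ a ∈ B, θ a = a) ∧ ∀ a ∈ E7, θ a = a ∨ θ a = a * z) (ha : a ∈ E7) : θ a = a :=
  (k a ha).2.uniq h.e (cn_cj h.e E7_EA (h.nophi ⟨k.norm h.e, cn_of h.e fun b hb => (k b (B_E7 hb)).2.cast rfl (q.1 b hb)⟩
    fun b hb => (q.2 b hb).imp ((k b hb).2.cast rfl) ((k b hb).2.cast rfl)) ha)

/-- the matrices -/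
abbrev vl (ε : Bool) : List M := [z, y1, y3, y2, d1, d0, d2 * ez ε]
/-- the matrices -/
abbrev vg (ε : Bool) : List M := [z, y2, y1, y3, d0 * ez ε, d2, d1]
/-- the matrices -/
abbrev v1 (ε : Bool) : List M := [z, y1, y2, y3 * y1, d0, d1 * ez ε, d2 * d0 * (z * y2) * ez ε]
/-- the matrices -/
abbrev v2 (ε : Bool) : List M := [z, y1, y2, y3 * y2, d0, d1 * d0 * (z * y1), d2 * ez ε]
/-- the matrices -/
abbrev v0 (ε : Bool) : List M := [z, y1, y2 * y1, y3, d0 * ez ε, d1, d2 * d1 * (z * y3) * ez ε]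
/-- the matrices -/
abbrev vx (w w' : M) : List M := [z, y1, y2, y3 * d0, d0, w * d1, w' * d2]
/-- a word -/
abbrev wx (w w' a : M) : M := ap (vl true) (ap (vx w w') (ap (vl true) (ap (vx w w') (ap (v2 true) a))))
/-- the relations -/
abbrev Rx (ε : Bool) (w w' : M) : Prop :=
  (∀ a ∈ [d1, d2], a ∈ E7 → ap (vx w w') (a1 * a * a1⁻¹) = a1 * a3 * ap (v2 ε) (ap (vx w w') a) * (a1 * a3)⁻¹) ∧
  (∀ a ∈ [d1, d2], a ∈ E7 → ap (vx w w') (a2 * a * a2⁻¹) = a2 * a3 * ap (v1 ε) (ap (vx w w') a) * (a2 * a3)⁻¹) ∧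
  ap (vx w w') (ap (v0 ε) d2) = ap (v0 ε) (e3 ε * ap (vx w w') d2 * (e3 ε)⁻¹)
/-- transvections -/
abbrev Tx (θ : M → M) : Prop := (∀ a ∈ B, θ a = a) ∧ ∀ a ∈ E7, θ a = a ∨ θ a = a * z

theorem rx1 : ∀ w ∈ U4, ∀ w' ∈ U4, Rx true w w' → Tx (fun a => wx w w' (wx w w' (wx w w' a))) ∧
    wx w w' (wx w w' (wx w w' d2)) ≠ d2 := by decide +kernel

theorem rx0 : ∀ w ∈ U4, ∀ w' ∈ U4, Rx false w w' → Tx (fun a => ap (vg false) (ap (vx w w') (ap (vg false) (ap (vx w w') a)))) ∧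
    (ap (vg false) (ap (vx w w') (ap (vg false) (ap (vx w w') d2))) = d2 → ∀ a ∈ E7, ap (vx w w') a = da * a * da⁻¹) := by
  decide +kernel

namespace Se
variable (h : Se F π ε)
include h

theorem am (r : t ∈ T0 ∧ a ∈ B ∧ b ∈ B ∧ t * a = b * t) : Cj EA F (F t) a b :=
  (Cj.of' h.e r.1 ((sxle : B ≤ T0) r.2.1) r.2.2.2).amb (B_EA r.2.1) (B_EA r.2.2.1)

theorem f1 : Lf F (F u1) (ap (v1 ε)) :=
  .of h.ea (h.am mdec) (h.am mdec) (h.am mdec) (h.am mdec) (h.cu mdec) h.u1a h.u1b (by cases ε <;> exact mdec)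
theorem f2 : Lf F (F u2) (ap (v2 ε)) :=
  .of h.ea (h.am mdec) (h.am mdec) (h.am mdec) (h.am mdec) (h.cu mdec) h.u2a h.u2b (by cases ε <;> exact mdec)
theorem f0 : Lf F (F g0) (ap (v0 ε)) :=
  .of h.ea (h.am mdec) (h.am mdec) (h.am mdec) (h.am mdec) h.cg h.g0a h.g0b (by cases ε <;> exact mdec)

theorem am' {σ : Perm (Fin 16)} (m : Mv F x σ L) (k : Nm σ L) (l : B ≤ L) (r : a ∈ B ∧ b ∈ B ∧ cjm σ a = b) : Cj EA F x a b :=
  (m.cj' k le_rfl (l r.1) r.2.2).amb (B_EA r.1) (B_EA r.2.1)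

theorem fl : ∃ l, Mv F l pl R2 ∧ Lf F l (ap (vl ε)) :=
  let ⟨l, m, k0, k1, k2⟩ := h.l
  have q : ∀ {a b}, a ∈ B ∧ b ∈ B ∧ cjm pl a = b → Cj EA F l a b := h.am' m pl_R2 sxle
  ⟨l, m, .of h.ea (q mdec) (q mdec) (q mdec) (q mdec) k0 k1 k2 (by cases ε <;> exact mdec)⟩

theorem fg : ∃ g ∈ 𝐍 (im A F), π g = pg ∧ Mv F g pg R3 ∧ Lf F g (ap (vg ε)) :=
  let ⟨g, g1, g2, m, k0, k1, k2⟩ := h.g
  have q : ∀ {a b}, a ∈ B ∧ b ∈ B ∧ cjm pg a = b → Cj EA F g a b := h.am' m pg_R3 sxle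
  ⟨g, g1, g2, m, .of h.ea (q mdec) (q mdec) (q mdec) (q mdec) k0 k1 k2 (by cases ε <;> exact mdec)⟩

theorem toEa : Ea F := by
  obtain ⟨l, m, k⟩ := h.fl
  obtain ⟨g, -, -, m', k'⟩ := h.fg
  exact ⟨h.ea, fun x => h.toKn.self1, ⟨l, ⟨k.norm h.ea, m.norm h.e sxle sxle pl_B⟩, h.am' m pl_R2 sxle mdec,
      (k d0 mdec).2.cast rfl (by cases ε <;> decide +kernel)⟩, ⟨g, ⟨k'.norm h.ea, m'.norm h.e sxle sxle pg_B⟩,
      h.am' m' pg_R3 sxle mdec, (k' d1 mdec).2.cast rfl (by cases ε <;> decide +kernel)⟩,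
    F u2, ⟨h.f2.norm h.ea, nm_im h.e sxle mdec mdec⟩, h.am mdec, h.u2a.cast rfl mdec⟩

end Se

theorem Sa.eps (h : Sa F π ε x) : ε = false ∧ Ac EA F E7 x da := by
  have c : ∀ a, a ∈ X7 ∧ a ∈ EA → Cj EA F x a a := fun a r => .of_comm r.2 (h.cn.1 _ (mem_im r.1)).symm
  have dd := h.ea.sq (g := d0) mdec mdec
  have cy : Cj EA F x y3 (y3 * d0) := ⟨mdec, mdec, by
    have q := h.xy
    have r := (c d0 mdec).comm.eq
    rw [inv_eq_of_mul_eq_one_left (h.ea.sq (g := y3) mdec mdec), r, mul_assoc, ← eq_inv_mul_iff_mul_eq,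
      inv_eq_of_mul_eq_one_left (h.ea.sq (g := y3) mdec mdec)] at q
    rw [q, h.ea.mul mdec mdec]; group⟩
  have k : ∀ a, a ∈ E7 → ∃ w ∈ U4, Cj EA F x a (w * a) := fun a ha => by
    obtain ⟨w, hw, q⟩ := (h.ry.mem_im_iff sxle).1 (h.toSe.cmX h.ry h.cn (mem_sup_left (mem_im ha)))
    have m := E7_EA ha
    have r : Commute (F w) (F (y3 * d0)) := by
      have p := (Cj.of' h.ea m (a := y3 * d0) mdec (E7_comm a ha _ mdec)).comm
      have p' : Commute (x * F a * x⁻¹) (F (y3 * d0)) :=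
        cy.e ▸ ((Cj.of' h.ea m (a := y3) mdec (E7_comm a ha _ mdec)).comm.conj x)
      exact q ▸ p'.mul_left p.inv_left
    have u := (mdec : ∀ w ∈ X7, w * (y3 * d0) = y3 * d0 * w → w ∈ U4) w hw
      (Cj.of_cj h.ry ((sxle : X7 ≤ RY) hw) (.of_comm mdec r))
    have u' := (sxle : U4 ≤ EA) u
    exact ⟨w, u, m, mul_mem u' m, by rw [h.ea.mul u' m, q, inv_mul_cancel_right]⟩
  obtain ⟨w, hw, k1⟩ := k d1 mdec
  obtain ⟨w', hw', k2⟩ := k d2 mdec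
  have fx : Lf F x (ap (vx w w')) := .of h.ea (c _ mdec) (c _ mdec) (c _ mdec) cy (c _ mdec) k1 k2
    ((mdec : ∀ w ∈ U4, ∀ w' ∈ U4, ∀ a ∈ [z, y1, y2, y3 * d0, d0, w * d1, w' * d2], a ∈ E7) w hw w' hw')
  have rl : ∀ {a c u θ}, Lf F (F u) θ → a ∈ A ∧ c ∈ A ∧ a ∈ R ∧ u ∈ T0 ∧ da * a * da⁻¹ = c * u → ∀ b, b ∈ E7 →
      ap (vx w w') (a * b * a⁻¹) = c * θ (ap (vx w w') b) * c⁻¹ := fun {a c u θ} q r b =>
    (fx.mul (.im h.ea r.1)).uniq h.ea (((Lf.im h.ea r.2.1).mul q).mul fx) (by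
      rw [← h.e.mul (A_T0 r.2.1) r.2.2.2.1, ← r.2.2.2.2, ← (h.ac a r.2.2.1).e, inv_mul_cancel_right])
  have m3 : e3 ε ∈ A := by cases ε <;> exact mdec
  have R : Rx ε w w' := ⟨fun a _ => rl h.toSe.f2 mdec a, fun a _ => rl h.toSe.f1 mdec a,
    (fx.mul h.toSe.f0).uniq h.ea ((h.toSe.f0.mul (.im h.ea m3)).mul fx) (by
      rw [← h.e.mul mdec (A_T0 m3), ← h.xg.e, inv_mul_cancel_right]) mdec⟩
  cases ε
  · obtain ⟨g, -, -, -, q⟩ := h.toSe.fg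
    obtain ⟨r1, r2⟩ := rx0 w hw w' hw' R
    exact ⟨rfl, fun a ha => (fx a ha).2.cast rfl (r2 (h.toSe.toEa.tz (q.mul (fx.mul (q.mul fx))) r1 mdec) a ha)⟩
  · obtain ⟨l, -, q⟩ := h.toSe.fl
    obtain ⟨r1, r2⟩ := rx1 w hw w' hw' R
    have p := q.mul (fx.mul (q.mul (fx.mul h.toSe.f2)))
    exact absurd (h.toSe.toEa.tz (p.mul (p.mul p)) r1 mdec) r2

end CF.Kn
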